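import Cfsg.Agent.Spor.J23.D0

set_option autoImplicit false
set_option maxRecDepth 100000000
set_option Elab.async false

namespace Cfsg.Agent.Spor.J23

theorem ok0 : Net.okb 5 n0 = true := by decide +kernel

theorem ok1 : Net.okb 5 n1 = true := by decide +kernel

theorem ok2 : Net.okb 5 n2 = true := by decide +kernel

theorem ok3 : Net.okb 5 n3 = true := by decide +kernel

theorem ok4 : Net.okb 5 n4 = true := by decide +kernel

theorem ok5 : Net.okb 5 n5 = true := by decide +kernel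

theorem ok6 : Net.okb 5 n6 = true := by decide +kernel

theorem rel0 : T.rel 5 [6, 6, 6] 0 5 = true := by decide +kernel

theorem rel1 : T.rel 5 [2, 2, 2] 0 5 = true := by decide +kernel

theorem rel2 : T.rel 5 [7, 7, 7] 0 5 = true := by decide +kernel

theorem rel3 : T.rel 5 [3, 3, 3] 0 5 = true := by decide +kernel

theorem rel4 : T.rel 5 [4, 4, 4] 0 5 = true := by decide +kernel

theorem rel5 : T.rel 5 [1, 1, 1] 0 5 = true := by decide +kernel

theorem rel6 : T.rel 5 [13, 14, 6, 3] 0 5 = true := by decide +kernel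

theorem rel7 : T.rel 5 [10, 13, 5, 5, 2] 0 5 = true := by decide +kernel

theorem rel8 : T.rel 5 [13, 14, 5, 5, 2] 0 5 = true := by decide +kernel

theorem rel9 : T.rel 5 [11, 14, 11, 14, 1] 0 5 = true := by decide +kernel

theorem rel10 : T.rel 5 [11, 7, 3, 6, 2] 0 5 = true := by decide +kernel

theorem rel11 : T.rel 5 [7, 3, 11, 10, 14, 1] 0 5 = true := by decide +kernel

theorem rel12 : T.rel 5 [11, 3, 11, 10, 4, 1] 0 5 = true := by decide +kernel

theorem rel13 : T.rel 5 [9, 8, 5, 6, 12, 1] 0 5 = true := by decide +kernel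

theorem rel14 : T.rel 5 [9, 8, 2, 3, 9, 1] 0 5 = true := by decide +kernel

theorem rel15 : T.rel 5 [13, 5, 5, 5, 13, 12, 2] 0 5 = true := by decide +kernel

theorem rel16 : T.rel 5 [4, 10, 14, 11, 14, 11, 3] 0 5 = true := by decide +kernel

theorem rel17 : T.rel 5 [7, 5, 13, 5, 5, 5, 1] 0 5 = true := by decide +kernel

theorem rel18 : T.rel 5 [2, 8, 12, 12, 6, 9, 1] 0 5 = true := by decide +kernel

theorem rel19 : T.rel 5 [6, 5, 4, 3, 7, 2, 1] 0 5 = true := by decide +kernel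

theorem rel20 : T.rel 5 [2, 5, 5, 6, 7, 11, 10, 1] 0 5 = true := by decide +kernel

theorem rel21 : T.rel 5 [2, 3, 4, 1, 2, 3, 4, 1] 0 5 = true := by decide +kernel

theorem rel22 : T.rel 5 [3, 4, 10, 1, 3, 4, 10, 1] 0 5 = true := by decide +kernel

theorem rel23 : T.rel 5 [2, 8, 3, 1, 2, 8, 3, 1] 0 5 = true := by decide +kernel

theorem rel24 : T.rel 5 [13, 12, 12, 12, 7, 5, 5, 5] 0 5 = true := by decide +kernel

theorem rel25 : T.rel 5 [14, 6, 7, 4, 14, 6, 7, 4] 0 5 = true := by decide +kernel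

theorem rel26 : T.rel 5 [2, 13, 12, 12, 7, 11, 3, 4, 14, 1] 0 5 = true := by decide +kernel

theorem rel27 : T.rel 5 [11, 3, 11, 3, 11, 3, 11, 3, 11, 3] 0 5 = true := by decide +kernel

theorem rel28 : T.rel 5 [2, 12, 12, 9, 5, 5, 13, 12, 12, 1] 0 5 = true := by decide +kernel

theorem rel29 : T.rel 5 [4, 7, 11, 10, 14, 13, 5, 5, 6, 3] 0 5 = true := by decide +kernel

theorem rel30 : T.rel 5 [9, 1, 9, 1, 9, 1, 9, 1, 9, 1] 0 5 = true := by decide +kernel

theorem rel31 : T.rel 5 [2, 5, 6, 7, 13, 12, 12, 12, 9, 1] 0 5 = true := by decide +kernel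

theorem rel32 : T.rel 5 [5, 5, 5, 5, 5, 5, 5, 5, 5, 5, 5, 5, 5, 5, 5, 5, 5, 5, 5, 5, 5, 5, 5] 0 5 = true := by decide +kernel

theorem hcov : T.treeCov (ones 23) L 1 = true := by decide +kernel

theorem hg : lall (fun z => band (memL L z) (band (sub (ones 23) (T.let z).cl) (T.closed (ones 23) z))) gs = true := by decide +kernel

theorem hivk : ivOk (2 * 0) EX IV = true := by decide +kernel

theorem hrt : RT.ok (2 * 0) EX RL = true := by decide +kernel

theorem hdefs : defs F 20 = true := by decide +kernel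

noncomputable def st0_l : List Nat := [nat_lit 0x3ff, nat_lit 0x3ff, nat_lit 0x3ff, nat_lit 0x3ff, nat_lit 0x520002b0001400000405, nat_lit 0x8000000000a8000500002d0001780001407, nat_lit 0x100005a0002f0001600001405, nat_lit 0x70000d400008000010001800002406, nat_lit 0x48000cc0001e00037000040000c406, nat_lit 0x200000800024000660000f0001b80002007, nat_lit 0xc000180000e803, nat_lit 0x800001c02, nat_lit 0x20000380001800003404, nat_lit 0xb00004c02, nat_lit 0x58000200000d0002000005405, nat_lit 0xd00010402, nat_lit 0x7000024000100001d00000800002000310001c00002c09, nat_lit 0x34000100000580012004, nat_lit 0xe80012802, nat_lit 0x3c000120000d80013004, nat_lit 0x1000007c02, nat_lit 0x220002680011c0007a0003b0000880006c07, nat_lit 0x1e0001180014c03, nat_lit 0x48000450000a0000fc04, nat_lit 0x4c000180000980013804, nat_lit 0x288001600004c00018000208000300000e000560001200010c0a, nat_lit 0x1e0002d00008003, nat_lit 0x540002e80004803, nat_lit 0x1b0002f80010403,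 nat_lit 0x880018402]
theorem st0 : band (steps F IV RT base st0_l 20) (Nat.beq (Nat.add 20 (llen st0_l)) 50) = true := by decide +kernel

theorem rot1_1 : T.rot 1 [8] (sel (ones 23) ip1 1) = true := by decide +kernel

theorem rot1_1r : band (Rule.ok (2 * 0) EX RL ⟨1 :: [8], [], 33, false⟩) (lall (memL L) [8]) = true := by decide +kernel

theorem rot1_2 : T.rot 1 [1, 1] (sel (ones 23) ip1 2) = true := by decide +kernel

theorem rot1_2r : band (Rule.ok (2 * 0) EX RL ⟨1 :: [1, 1], [], 5, true⟩) (lall (memL L) [1, 1]) = true := by decide +kernel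

theorem rot1_3 : T.rot 1 [11, 14, 11, 14] (sel (ones 23) ip1 3) = true := by decide +kernel

theorem rot1_3r : band (Rule.ok (2 * 0) EX RL ⟨1 :: [11, 14, 11, 14], [0], 9, true⟩) (lall (memL L) [11, 14, 11, 14]) = true := by decide +kernel

theorem rot1_4 : T.rot 1 [7, 3, 11, 10, 14] (sel (ones 23) ip1 4) = true := by decide +kernel

theorem rot1_4r : band (Rule.ok (2 * 0) EX RL ⟨1 :: [7, 3, 11, 10, 14], [0], 11, true⟩) (lall (memL L) [7, 3, 11, 10, 14]) = true := by decide +kernel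

theorem rot1_5 : T.rot 1 [11, 3, 11, 10, 4] (sel (ones 23) ip1 5) = true := by decide +kernel

theorem rot1_5r : band (Rule.ok (2 * 0) EX RL ⟨1 :: [11, 3, 11, 10, 4], [0], 12, true⟩) (lall (memL L) [11, 3, 11, 10, 4]) = true := by decide +kernel

theorem rot1_6 : T.rot 1 [9, 8, 5, 6, 12] (sel (ones 23) ip1 6) = true := by decide +kernel

theorem rot1_6r : band (Rule.ok (2 * 0) EX RL ⟨1 :: [9, 8, 5, 6, 12], [0], 13, true⟩) (lall (memL L) [9, 8, 5, 6, 12]) = true := by decide +kernel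

theorem rot1_7 : T.rot 1 [2, 8, 5, 13, 12] (sel (ones 23) ip1 7) = true := by decide +kernel

theorem rot1_7r : band (Rule.ok (2 * 0) EX RL ⟨1 :: [2, 8, 5, 13, 12], [2, 0], 13, false⟩) (lall (memL L) [2, 8, 5, 13, 12]) = true := by decide +kernel

theorem rot1_8 : T.rot 1 [7, 5, 13, 5, 5, 5] (sel (ones 23) ip1 8) = true := by decide +kernel

theorem rot1_8r : band (Rule.ok (2 * 0) EX RL ⟨1 :: [7, 5, 13, 5, 5, 5], [0], 17, true⟩) (lall (memL L) [7, 5, 13, 5, 5, 5]) = true := by decide +kernel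

theorem rot1_9 : T.rot 1 [2, 8, 12, 12, 6, 9] (sel (ones 23) ip1 9) = true := by decide +kernel

theorem rot1_9r : band (Rule.ok (2 * 0) EX RL ⟨1 :: [2, 8, 12, 12, 6, 9], [0], 18, true⟩) (lall (memL L) [2, 8, 12, 12, 6, 9]) = true := by decide +kernel

theorem rot1_10 : T.rot 1 [9, 8, 2, 13, 5, 5] (sel (ones 23) ip1 10) = true := by decide +kernel

theorem rot1_10r : band (Rule.ok (2 * 0) EX RL ⟨1 :: [9, 8, 2, 13, 5, 5], [3, 0], 18, false⟩) (lall (memL L) [9, 8, 2, 13, 5, 5]) = true := by decide +kernel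

theorem rot1_11 : T.rot 1 [6, 5, 4, 3, 7, 2] (sel (ones 23) ip1 11) = true := by decide +kernel

theorem rot1_11r : band (Rule.ok (2 * 0) EX RL ⟨1 :: [6, 5, 4, 3, 7, 2], [0], 19, true⟩) (lall (memL L) [6, 5, 4, 3, 7, 2]) = true := by decide +kernel

theorem rot1_12 : T.rot 1 [2, 5, 5, 6, 7, 11, 10] (sel (ones 23) ip1 12) = true := by decide +kernel

theorem rot1_12r : band (Rule.ok (2 * 0) EX RL ⟨1 :: [2, 5, 5, 6, 7, 11, 10], [0], 20, true⟩) (lall (memL L) [2, 5, 5, 6, 7, 11, 10]) = true := by decide +kernel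

theorem cov1 : T.cover 1 [(sel (ones 23) ip1 1), (sel (ones 23) ip1 2), (sel (ones 23) ip1 3), (sel (ones 23) ip1 4), (sel (ones 23) ip1 5), (sel (ones 23) ip1 6), (sel (ones 23) ip1 7), (sel (ones 23) ip1 8), (sel (ones 23) ip1 9), (sel (ones 23) ip1 10), (sel (ones 23) ip1 11), (sel (ones 23) ip1 12), 1] = true := by decide +kernel

theorem tl1 : T.treeLt 5 1 = true := by decide +kernel

theorem rot2_1 : T.rot 2 [9] (sel (ones 23) ip2 1) = true := by decide +kernel

theorem rot2_1r : band (Rule.ok (2 * 0) EX RL ⟨2 :: [9], [], 33, false⟩) (lall (memL L) [9]) = true := by decide +kernel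

theorem rot2_2 : T.rot 2 [2, 2] (sel (ones 23) ip2 2) = true := by decide +kernel

theorem rot2_2r : band (Rule.ok (2 * 0) EX RL ⟨2 :: [2, 2], [], 1, true⟩) (lall (memL L) [2, 2]) = true := by decide +kernel

theorem rot2_3 : T.rot 2 [10, 13, 5, 5] (sel (ones 23) ip2 3) = true := by decide +kernel

theorem rot2_3r : band (Rule.ok (2 * 0) EX RL ⟨2 :: [10, 13, 5, 5], [2], 7, true⟩) (lall (memL L) [10, 13, 5, 5]) = true := by decide +kernel

theorem rot2_4 : T.rot 2 [13, 14, 5, 5] (sel (ones 23) ip2 4) = true := by decide +kernel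

theorem rot2_4r : band (Rule.ok (2 * 0) EX RL ⟨2 :: [13, 14, 5, 5], [2], 8, true⟩) (lall (memL L) [13, 14, 5, 5]) = true := by decide +kernel

theorem rot2_5 : T.rot 2 [11, 7, 3, 6] (sel (ones 23) ip2 5) = true := by decide +kernel

theorem rot2_5r : band (Rule.ok (2 * 0) EX RL ⟨2 :: [11, 7, 3, 6], [2], 10, true⟩) (lall (memL L) [11, 7, 3, 6]) = true := by decide +kernel

theorem rot2_6 : T.rot 2 [13, 5, 5, 5, 13, 12] (sel (ones 23) ip2 6) = true := by decide +kernel

theorem rot2_6r : band (Rule.ok (2 * 0) EX RL ⟨2 :: [13, 5, 5, 5, 13, 12], [2], 15, true⟩) (lall (memL L) [13, 5, 5, 5, 13, 12]) = true := by decide +kernel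

theorem rot2_7 : T.rot 2 [13, 5, 5, 1, 9, 8] (sel (ones 23) ip2 7) = true := by decide +kernel

theorem rot2_7r : band (Rule.ok (2 * 0) EX RL ⟨2 :: [13, 5, 5, 1, 9, 8], [0], 18, false⟩) (lall (memL L) [13, 5, 5, 1, 9, 8]) = true := by decide +kernel

theorem rot2_8 : T.rot 2 [1, 6, 5, 4, 3, 7] (sel (ones 23) ip2 8) = true := by decide +kernel

theorem rot2_8r : band (Rule.ok (2 * 0) EX RL ⟨2 :: [1, 6, 5, 4, 3, 7], [0, 2], 19, true⟩) (lall (memL L) [1, 6, 5, 4, 3, 7]) = true := by decide +kernel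

theorem rot2_9 : T.rot 2 [5, 5, 6, 7, 11, 10, 1] (sel (ones 23) ip2 9) = true := by decide +kernel

theorem rot2_9r : band (Rule.ok (2 * 0) EX RL ⟨2 :: [5, 5, 6, 7, 11, 10, 1], [], 20, true⟩) (lall (memL L) [5, 5, 6, 7, 11, 10, 1]) = true := by decide +kernel

theorem rot2_10 : T.rot 2 [3, 4, 1, 2, 3, 4, 1] (sel (ones 23) ip2 10) = true := by decide +kernel

theorem rot2_10r : band (Rule.ok (2 * 0) EX RL ⟨2 :: [3, 4, 1, 2, 3, 4, 1], [], 21, true⟩) (lall (memL L) [3, 4, 1, 2, 3, 4, 1]) = true := by decide +kernel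

theorem rot2_11 : T.rot 2 [13, 12, 12, 7, 11, 3, 4, 14, 1] (sel (ones 23) ip2 11) = true := by decide +kernel

theorem rot2_11r : band (Rule.ok (2 * 0) EX RL ⟨2 :: [13, 12, 12, 7, 11, 3, 4, 14, 1], [], 26, true⟩) (lall (memL L) [13, 12, 12, 7, 11, 3, 4, 14, 1]) = true := by decide +kernel

theorem rot2_12 : T.rot 2 [12, 12, 9, 5, 5, 13, 12, 12, 1] (sel (ones 23) ip2 12) = true := by decide +kernel

theorem rot2_12r : band (Rule.ok (2 * 0) EX RL ⟨2 :: [12, 12, 9, 5, 5, 13, 12, 12, 1], [], 28, true⟩) (lall (memL L) [12, 12, 9, 5, 5, 13, 12, 12, 1]) = true := by decide +kernel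

theorem rot2_13 : T.rot 2 [5, 5, 9, 8, 5, 5, 6, 12, 12] (sel (ones 23) ip2 13) = true := by decide +kernel

theorem rot2_13r : band (Rule.ok (2 * 0) EX RL ⟨2 :: [5, 5, 9, 8, 5, 5, 6, 12, 12], [3, 8, 8, 2], 28, false⟩) (lall (memL L) [5, 5, 9, 8, 5, 5, 6, 12, 12]) = true := by decide +kernel

theorem rot2_14 : T.rot 2 [5, 5, 5, 6, 14, 13, 12, 9, 8] (sel (ones 23) ip2 14) = true := by decide +kernel

theorem rot2_14r : band (Rule.ok (2 * 0) EX RL ⟨2 :: [5, 5, 5, 6, 14, 13, 12, 9, 8], [0], 31, false⟩) (lall (memL L) [5, 5, 5, 6, 14, 13, 12, 9, 8]) = true := by decide +kernel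

theorem cov2 : T.cover 2 [(sel (ones 23) ip2 1), (sel (ones 23) ip2 2), (sel (ones 23) ip2 3), (sel (ones 23) ip2 4), (sel (ones 23) ip2 5), (sel (ones 23) ip2 6), (sel (ones 23) ip2 7), (sel (ones 23) ip2 8), (sel (ones 23) ip2 9), (sel (ones 23) ip2 10), (sel (ones 23) ip2 11), (sel (ones 23) ip2 12), (sel (ones 23) ip2 13), (sel (ones 23) ip2 14), 1] = true := by decide +kernel

theorem tl2 : T.treeLt 5 2 = true := by decide +kernel

theorem rot3_1 : T.rot 3 [10] (sel (ones 23) ip3 1) = true := by decide +kernel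

theorem rot3_1r : band (Rule.ok (2 * 0) EX RL ⟨3 :: [10], [], 33, false⟩) (lall (memL L) [10]) = true := by decide +kernel

theorem rot3_2 : T.rot 3 [3, 3] (sel (ones 23) ip3 2) = true := by decide +kernel

theorem rot3_2r : band (Rule.ok (2 * 0) EX RL ⟨3 :: [3, 3], [], 3, true⟩) (lall (memL L) [3, 3]) = true := by decide +kernel

theorem rot3_3 : T.rot 3 [13, 14, 6] (sel (ones 23) ip3 3) = true := by decide +kernel

theorem rot3_3r : band (Rule.ok (2 * 0) EX RL ⟨3 :: [13, 14, 6], [4], 6, true⟩) (lall (memL L) [13, 14, 6]) = true := by decide +kernel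

theorem rot3_4 : T.rot 3 [9, 12, 12, 6] (sel (ones 23) ip3 4) = true := by decide +kernel

theorem rot3_4r : band (Rule.ok (2 * 0) EX RL ⟨3 :: [9, 12, 12, 6], [4], 7, false⟩) (lall (memL L) [9, 12, 12, 6]) = true := by decide +kernel

theorem rot3_5 : T.rot 3 [6, 2, 11, 7] (sel (ones 23) ip3 5) = true := by decide +kernel

theorem rot3_5r : band (Rule.ok (2 * 0) EX RL ⟨3 :: [6, 2, 11, 7], [6, 13], 10, true⟩) (lall (memL L) [6, 2, 11, 7]) = true := by decide +kernel

theorem rot3_6 : T.rot 3 [11, 10, 14, 1, 7] (sel (ones 23) ip3 6) = true := by decide +kernel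

theorem rot3_6r : band (Rule.ok (2 * 0) EX RL ⟨3 :: [11, 10, 14, 1, 7], [13], 11, true⟩) (lall (memL L) [11, 10, 14, 1, 7]) = true := by decide +kernel

theorem rot3_7 : T.rot 3 [9, 1, 9, 8, 2] (sel (ones 23) ip3 7) = true := by decide +kernel

theorem rot3_7r : band (Rule.ok (2 * 0) EX RL ⟨3 :: [9, 1, 9, 8, 2], [0, 3, 4], 14, true⟩) (lall (memL L) [9, 1, 9, 8, 2]) = true := by decide +kernel

theorem rot3_8 : T.rot 3 [7, 2, 1, 6, 5, 4] (sel (ones 23) ip3 8) = true := by decide +kernel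

theorem rot3_8r : band (Rule.ok (2 * 0) EX RL ⟨3 :: [7, 2, 1, 6, 5, 4], [11, 9, 7], 19, true⟩) (lall (memL L) [7, 2, 1, 6, 5, 4]) = true := by decide +kernel

theorem rot3_9 : T.rot 3 [4, 14, 13, 12, 12, 9, 8] (sel (ones 23) ip3 9) = true := by decide +kernel

theorem rot3_9r : band (Rule.ok (2 * 0) EX RL ⟨3 :: [4, 14, 13, 12, 12, 9, 8], [0], 20, false⟩) (lall (memL L) [4, 14, 13, 12, 12, 9, 8]) = true := by decide +kernel

theorem cov3 : T.cover 3 [(sel (ones 23) ip3 1), (sel (ones 23) ip3 2), (sel (ones 23) ip3 3), (sel (ones 23) ip3 4), (sel (ones 23) ip3 5), (sel (ones 23) ip3 6), (sel (ones 23) ip3 7), (sel (ones 23) ip3 8), (sel (ones 23) ip3 9), 1] = true := by decide +kernel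

theorem tl3 : T.treeLt 5 3 = true := by decide +kernel

theorem rot4_1 : T.rot 4 [11] (sel (ones 23) ip4 1) = true := by decide +kernel

theorem rot4_1r : band (Rule.ok (2 * 0) EX RL ⟨4 :: [11], [], 33, false⟩) (lall (memL L) [11]) = true := by decide +kernel

theorem rot4_2 : T.rot 4 [4, 4] (sel (ones 23) ip4 2) = true := by decide +kernel

theorem rot4_2r : band (Rule.ok (2 * 0) EX RL ⟨4 :: [4, 4], [], 4, true⟩) (lall (memL L) [4, 4]) = true := by decide +kernel

theorem rot4_3 : T.rot 4 [7, 4, 8, 7] (sel (ones 23) ip4 3) = true := by decide +kernel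

theorem rot4_3r : band (Rule.ok (2 * 0) EX RL ⟨4 :: [7, 4, 8, 7], [0, 13], 9, false⟩) (lall (memL L) [7, 4, 8, 7]) = true := by decide +kernel

theorem rot4_4 : T.rot 4 [8, 7, 4, 7] (sel (ones 23) ip4 4) = true := by decide +kernel

theorem rot4_4r : band (Rule.ok (2 * 0) EX RL ⟨4 :: [8, 7, 4, 7], [6], 9, false⟩) (lall (memL L) [8, 7, 4, 7]) = true := by decide +kernel

theorem rot4_5 : T.rot 4 [9, 13, 10, 14] (sel (ones 23) ip4 5) = true := by decide +kernel

theorem rot4_5r : band (Rule.ok (2 * 0) EX RL ⟨4 :: [9, 13, 10, 14], [6], 10, false⟩) (lall (memL L) [9, 13, 10, 14]) = true := by decide +kernel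

theorem rot4_6 : T.rot 4 [10, 14, 8, 7, 3] (sel (ones 23) ip4 6) = true := by decide +kernel

theorem rot4_6r : band (Rule.ok (2 * 0) EX RL ⟨4 :: [10, 14, 8, 7, 3], [13, 5, 6], 11, false⟩) (lall (memL L) [10, 14, 8, 7, 3]) = true := by decide +kernel

theorem rot4_7 : T.rot 4 [1, 11, 3, 11, 10] (sel (ones 23) ip4 7) = true := by decide +kernel

theorem rot4_7r : band (Rule.ok (2 * 0) EX RL ⟨4 :: [1, 11, 3, 11, 10], [0, 6], 12, true⟩) (lall (memL L) [1, 11, 3, 11, 10]) = true := by decide +kernel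

theorem rot4_8 : T.rot 4 [10, 14, 11, 14, 11, 3] (sel (ones 23) ip4 8) = true := by decide +kernel

theorem rot4_8r : band (Rule.ok (2 * 0) EX RL ⟨4 :: [10, 14, 11, 14, 11, 3], [], 16, true⟩) (lall (memL L) [10, 14, 11, 14, 11, 3]) = true := by decide +kernel

theorem rot4_9 : T.rot 4 [7, 4, 7, 3, 11, 10] (sel (ones 23) ip4 9) = true := by decide +kernel

theorem rot4_9r : band (Rule.ok (2 * 0) EX RL ⟨4 :: [7, 4, 7, 3, 11, 10], [4], 16, false⟩) (lall (memL L) [7, 4, 7, 3, 11, 10]) = true := by decide +kernel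

theorem rot4_10 : T.rot 4 [3, 7, 2, 1, 6, 5] (sel (ones 23) ip4 10) = true := by decide +kernel

theorem rot4_10r : band (Rule.ok (2 * 0) EX RL ⟨4 :: [3, 7, 2, 1, 6, 5], [11, 9], 19, true⟩) (lall (memL L) [3, 7, 2, 1, 6, 5]) = true := by decide +kernel

theorem rot4_11 : T.rot 4 [14, 13, 12, 12, 9, 8, 3] (sel (ones 23) ip4 11) = true := by decide +kernel

theorem rot4_11r : band (Rule.ok (2 * 0) EX RL ⟨4 :: [14, 13, 12, 12, 9, 8, 3], [0, 5], 20, false⟩) (lall (memL L) [14, 13, 12, 12, 9, 8, 3]) = true := by decide +kernel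

theorem rot4_12 : T.rot 4 [1, 2, 3, 4, 1, 2, 3] (sel (ones 23) ip4 12) = true := by decide +kernel

theorem rot4_12r : band (Rule.ok (2 * 0) EX RL ⟨4 :: [1, 2, 3, 4, 1, 2, 3], [0, 6], 21, true⟩) (lall (memL L) [1, 2, 3, 4, 1, 2, 3]) = true := by decide +kernel

theorem rot4_13 : T.rot 4 [7, 11, 10, 14, 13, 5, 5, 6, 3] (sel (ones 23) ip4 13) = true := by decide +kernel

theorem rot4_13r : band (Rule.ok (2 * 0) EX RL ⟨4 :: [7, 11, 10, 14, 13, 5, 5, 6, 3], [], 29, true⟩) (lall (memL L) [7, 11, 10, 14, 13, 5, 5, 6, 3]) = true := by decide +kernel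

theorem cov4 : T.cover 4 [(sel (ones 23) ip4 1), (sel (ones 23) ip4 2), (sel (ones 23) ip4 3), (sel (ones 23) ip4 4), (sel (ones 23) ip4 5), (sel (ones 23) ip4 6), (sel (ones 23) ip4 7), (sel (ones 23) ip4 8), (sel (ones 23) ip4 9), (sel (ones 23) ip4 10), (sel (ones 23) ip4 11), (sel (ones 23) ip4 12), (sel (ones 23) ip4 13), 1] = true := by decide +kernel

theorem tl4 : T.treeLt 5 4 = true := by decide +kernel

theorem rot5_1 : T.rot 5 [12] (sel (ones 23) ip5 1) = true := by decide +kernel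

theorem rot5_1r : band (Rule.ok (2 * 0) EX RL ⟨5 :: [12], [], 33, false⟩) (lall (memL L) [12]) = true := by decide +kernel

theorem rot5_2 : T.rot 5 [5, 2, 10, 13] (sel (ones 23) ip5 2) = true := by decide +kernel

theorem rot5_2r : band (Rule.ok (2 * 0) EX RL ⟨5 :: [5, 2, 10, 13], [4, 10], 7, true⟩) (lall (memL L) [5, 2, 10, 13]) = true := by decide +kernel

theorem rot5_3 : T.rot 5 [2, 10, 13, 5] (sel (ones 23) ip5 3) = true := by decide +kernel

theorem rot5_3r : band (Rule.ok (2 * 0) EX RL ⟨5 :: [2, 10, 13, 5], [2, 8], 7, true⟩) (lall (memL L) [2, 10, 13, 5]) = true := by decide +kernel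

theorem rot5_4 : T.rot 5 [6, 12, 1, 9, 8] (sel (ones 23) ip5 4) = true := by decide +kernel

theorem rot5_4r : band (Rule.ok (2 * 0) EX RL ⟨5 :: [6, 12, 1, 9, 8], [2, 0], 13, true⟩) (lall (memL L) [6, 12, 1, 9, 8]) = true := by decide +kernel

theorem rot5_5 : T.rot 5 [5, 13, 12, 2, 13, 5] (sel (ones 23) ip5 5) = true := by decide +kernel

theorem rot5_5r : band (Rule.ok (2 * 0) EX RL ⟨5 :: [5, 13, 12, 2, 13, 5], [10, 9], 15, true⟩) (lall (memL L) [5, 13, 12, 2, 13, 5]) = true := by decide +kernel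

theorem rot5_6 : T.rot 5 [13, 12, 2, 13, 5, 5] (sel (ones 23) ip5 6) = true := by decide +kernel

theorem rot5_6r : band (Rule.ok (2 * 0) EX RL ⟨5 :: [13, 12, 2, 13, 5, 5], [10, 9, 9], 15, true⟩) (lall (memL L) [13, 12, 2, 13, 5, 5]) = true := by decide +kernel

theorem rot5_7 : T.rot 5 [6, 12, 12, 12, 6, 9] (sel (ones 23) ip5 7) = true := by decide +kernel

theorem rot5_7r : band (Rule.ok (2 * 0) EX RL ⟨5 :: [6, 12, 12, 12, 6, 9], [2], 15, false⟩) (lall (memL L) [6, 12, 12, 12, 6, 9]) = true := by decide +kernel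

theorem rot5_8 : T.rot 5 [5, 1, 7, 5, 13, 5] (sel (ones 23) ip5 8) = true := by decide +kernel

theorem rot5_8r : band (Rule.ok (2 * 0) EX RL ⟨5 :: [5, 1, 7, 5, 13, 5], [0, 8, 8], 17, true⟩) (lall (memL L) [5, 1, 7, 5, 13, 5]) = true := by decide +kernel

theorem rot5_9 : T.rot 5 [4, 3, 7, 2, 1, 6] (sel (ones 23) ip5 9) = true := by decide +kernel

theorem rot5_9r : band (Rule.ok (2 * 0) EX RL ⟨5 :: [4, 3, 7, 2, 1, 6], [11], 19, true⟩) (lall (memL L) [4, 3, 7, 2, 1, 6]) = true := by decide +kernel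

theorem rot5_10 : T.rot 5 [5, 6, 7, 11, 10, 1, 2] (sel (ones 23) ip5 10) = true := by decide +kernel

theorem rot5_10r : band (Rule.ok (2 * 0) EX RL ⟨5 :: [5, 6, 7, 11, 10, 1, 2], [3], 20, true⟩) (lall (memL L) [5, 6, 7, 11, 10, 1, 2]) = true := by decide +kernel

theorem rot5_11 : T.rot 5 [5, 5, 6, 12, 12, 12, 14] (sel (ones 23) ip5 11) = true := by decide +kernel

theorem rot5_11r : band (Rule.ok (2 * 0) EX RL ⟨5 :: [5, 5, 6, 12, 12, 12, 14], [10, 8, 8, 8], 24, false⟩) (lall (memL L) [5, 5, 6, 12, 12, 12, 14]) = true := by decide +kernel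

theorem rot5_12 : T.rot 5 [5, 6, 9, 8, 7, 11, 10, 4, 14] (sel (ones 23) ip5 12) = true := by decide +kernel

theorem rot5_12r : band (Rule.ok (2 * 0) EX RL ⟨5 :: [5, 6, 9, 8, 7, 11, 10, 4, 14], [3, 10, 8, 8], 26, false⟩) (lall (memL L) [5, 6, 9, 8, 7, 11, 10, 4, 14]) = true := by decide +kernel

theorem rot5_13 : T.rot 5 [9, 8, 5, 5, 6, 12, 12, 2, 5] (sel (ones 23) ip5 13) = true := by decide +kernel

theorem rot5_13r : band (Rule.ok (2 * 0) EX RL ⟨5 :: [9, 8, 5, 5, 6, 12, 12, 2, 5], [3, 8], 28, false⟩) (lall (memL L) [9, 8, 5, 5, 6, 12, 12, 2, 5]) = true := by decide +kernel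

theorem cov5 : T.cover 5 [(sel (ones 23) ip5 1), (sel (ones 23) ip5 2), (sel (ones 23) ip5 3), (sel (ones 23) ip5 4), (sel (ones 23) ip5 5), (sel (ones 23) ip5 6), (sel (ones 23) ip5 7), (sel (ones 23) ip5 8), (sel (ones 23) ip5 9), (sel (ones 23) ip5 10), (sel (ones 23) ip5 11), (sel (ones 23) ip5 12), (sel (ones 23) ip5 13)] = true := by decide +kernel

theorem tl5 : T.treeLt 5 5 = true := by decide +kernel

theorem rot6_1 : T.rot 6 [13] (sel (ones 23) ip6 1) = true := by decide +kernel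

theorem rot6_1r : band (Rule.ok (2 * 0) EX RL ⟨6 :: [13], [], 33, false⟩) (lall (memL L) [13]) = true := by decide +kernel

theorem rot6_2 : T.rot 6 [6, 6] (sel (ones 23) ip6 2) = true := by decide +kernel

theorem rot6_2r : band (Rule.ok (2 * 0) EX RL ⟨6 :: [6, 6], [], 0, true⟩) (lall (memL L) [6, 6]) = true := by decide +kernel

theorem rot6_3 : T.rot 6 [3, 13, 14] (sel (ones 23) ip6 3) = true := by decide +kernel

theorem rot6_3r : band (Rule.ok (2 * 0) EX RL ⟨6 :: [3, 13, 14], [4, 10], 6, true⟩) (lall (memL L) [3, 13, 14]) = true := by decide +kernel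

theorem rot6_4 : T.rot 6 [10, 13, 7] (sel (ones 23) ip6 4) = true := by decide +kernel

theorem rot6_4r : band (Rule.ok (2 * 0) EX RL ⟨6 :: [10, 13, 7], [10], 6, false⟩) (lall (memL L) [10, 13, 7]) = true := by decide +kernel

theorem rot6_5 : T.rot 6 [3, 9, 12, 12] (sel (ones 23) ip6 5) = true := by decide +kernel

theorem rot6_5r : band (Rule.ok (2 * 0) EX RL ⟨6 :: [3, 9, 12, 12], [4, 10], 7, false⟩) (lall (memL L) [3, 9, 12, 12]) = true := by decide +kernel

theorem rot6_6 : T.rot 6 [12, 1, 9, 8, 5] (sel (ones 23) ip6 6) = true := by decide +kernel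

theorem rot6_6r : band (Rule.ok (2 * 0) EX RL ⟨6 :: [12, 1, 9, 8, 5], [0, 9, 10], 13, true⟩) (lall (memL L) [12, 1, 9, 8, 5]) = true := by decide +kernel

theorem rot6_7 : T.rot 6 [12, 12, 12, 6, 9, 5] (sel (ones 23) ip6 7) = true := by decide +kernel

theorem rot6_7r : band (Rule.ok (2 * 0) EX RL ⟨6 :: [12, 12, 12, 6, 9, 5], [2, 9], 15, false⟩) (lall (memL L) [12, 12, 12, 6, 9, 5]) = true := by decide +kernel

theorem rot6_8 : T.rot 6 [12, 14, 8, 12, 12, 12] (sel (ones 23) ip6 8) = true := by decide +kernel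

theorem rot6_8r : band (Rule.ok (2 * 0) EX RL ⟨6 :: [12, 14, 8, 12, 12, 12], [13, 9, 10], 17, false⟩) (lall (memL L) [12, 14, 8, 12, 12, 12]) = true := by decide +kernel

theorem rot6_9 : T.rot 6 [7, 11, 10, 1, 2, 5, 5] (sel (ones 23) ip6 9) = true := by decide +kernel

theorem rot6_9r : band (Rule.ok (2 * 0) EX RL ⟨6 :: [7, 11, 10, 1, 2, 5, 5], [3, 9, 9], 20, true⟩) (lall (memL L) [7, 11, 10, 1, 2, 5, 5]) = true := by decide +kernel

theorem rot6_10 : T.rot 6 [7, 4, 14, 6, 7, 4, 14] (sel (ones 23) ip6 10) = true := by decide +kernel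

theorem rot6_10r : band (Rule.ok (2 * 0) EX RL ⟨6 :: [7, 4, 14, 6, 7, 4, 14], [12], 25, true⟩) (lall (memL L) [7, 4, 14, 6, 7, 4, 14]) = true := by decide +kernel

theorem rot6_11 : T.rot 6 [7, 3, 4, 14, 11, 10, 13, 12, 12] (sel (ones 23) ip6 11) = true := by decide +kernel

theorem rot6_11r : band (Rule.ok (2 * 0) EX RL ⟨6 :: [7, 3, 4, 14, 11, 10, 13, 12, 12], [4, 10, 8, 8], 29, false⟩) (lall (memL L) [7, 3, 4, 14, 11, 10, 13, 12, 12]) = true := by decide +kernel

theorem rot6_12 : T.rot 6 [14, 13, 12, 9, 8, 2, 5, 5, 5] (sel (ones 23) ip6 12) = true := by decide +kernel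

theorem rot6_12r : band (Rule.ok (2 * 0) EX RL ⟨6 :: [14, 13, 12, 9, 8, 2, 5, 5, 5], [3, 9, 11, 13, 10], 31, false⟩) (lall (memL L) [14, 13, 12, 9, 8, 2, 5, 5, 5]) = true := by decide +kernel

theorem cov6 : T.cover 6 [(sel (ones 23) ip6 1), (sel (ones 23) ip6 2), (sel (ones 23) ip6 3), (sel (ones 23) ip6 4), (sel (ones 23) ip6 5), (sel (ones 23) ip6 6), (sel (ones 23) ip6 7), (sel (ones 23) ip6 8), (sel (ones 23) ip6 9), (sel (ones 23) ip6 10), (sel (ones 23) ip6 11), (sel (ones 23) ip6 12)] = true := by decide +kernel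

theorem tl6 : T.treeLt 5 6 = true := by decide +kernel

theorem rot7_1 : T.rot 7 [14] (sel (ones 23) ip7 1) = true := by decide +kernel

theorem rot7_1r : band (Rule.ok (2 * 0) EX RL ⟨7 :: [14], [], 33, false⟩) (lall (memL L) [14]) = true := by decide +kernel

theorem rot7_2 : T.rot 7 [7, 7] (sel (ones 23) ip7 2) = true := by decide +kernel

theorem rot7_2r : band (Rule.ok (2 * 0) EX RL ⟨7 :: [7, 7], [], 2, true⟩) (lall (memL L) [7, 7]) = true := by decide +kernel

theorem rot7_3 : T.rot 7 [6, 10, 13] (sel (ones 23) ip7 3) = true := by decide +kernel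

theorem rot7_3r : band (Rule.ok (2 * 0) EX RL ⟨7 :: [6, 10, 13], [10, 12], 6, false⟩) (lall (memL L) [6, 10, 13]) = true := by decide +kernel

theorem rot7_4 : T.rot 7 [6, 9, 12, 12] (sel (ones 23) ip7 4) = true := by decide +kernel

theorem rot7_4r : band (Rule.ok (2 * 0) EX RL ⟨7 :: [6, 9, 12, 12], [10, 12], 8, false⟩) (lall (memL L) [6, 9, 12, 12]) = true := by decide +kernel

theorem rot7_5 : T.rot 7 [4, 8, 7, 4] (sel (ones 23) ip7 5) = true := by decide +kernel

theorem rot7_5r : band (Rule.ok (2 * 0) EX RL ⟨7 :: [4, 8, 7, 4], [6, 12], 9, false⟩) (lall (memL L) [4, 8, 7, 4]) = true := by decide +kernel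

theorem rot7_6 : T.rot 7 [3, 6, 2, 11] (sel (ones 23) ip7 6) = true := by decide +kernel

theorem rot7_6r : band (Rule.ok (2 * 0) EX RL ⟨7 :: [3, 6, 2, 11], [6], 10, true⟩) (lall (memL L) [3, 6, 2, 11]) = true := by decide +kernel

theorem rot7_7 : T.rot 7 [3, 11, 10, 14, 1] (sel (ones 23) ip7 7) = true := by decide +kernel

theorem rot7_7r : band (Rule.ok (2 * 0) EX RL ⟨7 :: [3, 11, 10, 14, 1], [], 11, true⟩) (lall (memL L) [3, 11, 10, 14, 1]) = true := by decide +kernel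

theorem rot7_8 : T.rot 7 [5, 13, 5, 5, 5, 1] (sel (ones 23) ip7 8) = true := by decide +kernel

theorem rot7_8r : band (Rule.ok (2 * 0) EX RL ⟨7 :: [5, 13, 5, 5, 5, 1], [], 17, true⟩) (lall (memL L) [5, 13, 5, 5, 5, 1]) = true := by decide +kernel

theorem rot7_9 : T.rot 7 [5, 5, 5, 13, 12, 12, 12] (sel (ones 23) ip7 9) = true := by decide +kernel

theorem rot7_9r : band (Rule.ok (2 * 0) EX RL ⟨7 :: [5, 5, 5, 13, 12, 12, 12], [8, 8, 8, 12], 24, true⟩) (lall (memL L) [5, 5, 5, 13, 12, 12, 12]) = true := by decide +kernel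

theorem rot7_10 : T.rot 7 [11, 10, 4, 14, 5, 5, 6, 9, 8] (sel (ones 23) ip7 10) = true := by decide +kernel

theorem rot7_10r : band (Rule.ok (2 * 0) EX RL ⟨7 :: [11, 10, 4, 14, 5, 5, 6, 9, 8], [0], 26, false⟩) (lall (memL L) [11, 10, 4, 14, 5, 5, 6, 9, 8]) = true := by decide +kernel

theorem rot7_11 : T.rot 7 [13, 12, 12, 12, 9, 1, 2, 5, 6] (sel (ones 23) ip7 11) = true := by decide +kernel

theorem rot7_11r : band (Rule.ok (2 * 0) EX RL ⟨7 :: [13, 12, 12, 12, 9, 1, 2, 5, 6], [3, 9, 11], 31, true⟩) (lall (memL L) [13, 12, 12, 12, 9, 1, 2, 5, 6]) = true := by decide +kernel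

theorem cov7 : T.cover 7 [(sel (ones 23) ip7 1), (sel (ones 23) ip7 2), (sel (ones 23) ip7 3), (sel (ones 23) ip7 4), (sel (ones 23) ip7 5), (sel (ones 23) ip7 6), (sel (ones 23) ip7 7), (sel (ones 23) ip7 8), (sel (ones 23) ip7 9), (sel (ones 23) ip7 10), (sel (ones 23) ip7 11)] = true := by decide +kernel

theorem tl7 : Nat.beq (T.let 7).tt 0 = true := by decide +kernel

theorem rot8_1 : T.rot 8 [1] (sel (ones 23) ip8 1) = true := by decide +kernel

theorem rot8_1r : band (Rule.ok (2 * 0) EX RL ⟨8 :: [1], [], 33, false⟩) (lall (memL L) [1]) = true := by decide +kernel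

theorem rot8_2 : T.rot 8 [8, 8] (sel (ones 23) ip8 2) = true := by decide +kernel

theorem rot8_2r : band (Rule.ok (2 * 0) EX RL ⟨8 :: [8, 8], [], 5, false⟩) (lall (memL L) [8, 8]) = true := by decide +kernel

theorem rot8_3 : T.rot 8 [7, 4, 7, 4] (sel (ones 23) ip8 3) = true := by decide +kernel

theorem rot8_3r : band (Rule.ok (2 * 0) EX RL ⟨8 :: [7, 4, 7, 4], [], 9, false⟩) (lall (memL L) [7, 4, 7, 4]) = true := by decide +kernel

theorem rot8_4 : T.rot 8 [7, 3, 4, 10, 14] (sel (ones 23) ip8 4) = true := by decide +kernel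

theorem rot8_4r : band (Rule.ok (2 * 0) EX RL ⟨8 :: [7, 3, 4, 10, 14], [], 11, false⟩) (lall (memL L) [7, 3, 4, 10, 14]) = true := by decide +kernel

theorem rot8_5 : T.rot 8 [11, 3, 4, 10, 4] (sel (ones 23) ip8 5) = true := by decide +kernel

theorem rot8_5r : band (Rule.ok (2 * 0) EX RL ⟨8 :: [11, 3, 4, 10, 4], [], 12, false⟩) (lall (memL L) [11, 3, 4, 10, 4]) = true := by decide +kernel

theorem rot8_6 : T.rot 8 [5, 6, 12, 1, 9] (sel (ones 23) ip8 6) = true := by decide +kernel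

theorem rot8_6r : band (Rule.ok (2 * 0) EX RL ⟨8 :: [5, 6, 12, 1, 9], [2], 13, true⟩) (lall (memL L) [5, 6, 12, 1, 9]) = true := by decide +kernel

theorem rot8_7 : T.rot 8 [5, 13, 12, 1, 2] (sel (ones 23) ip8 7) = true := by decide +kernel

theorem rot8_7r : band (Rule.ok (2 * 0) EX RL ⟨8 :: [5, 13, 12, 1, 2], [], 13, false⟩) (lall (memL L) [5, 13, 12, 1, 2]) = true := by decide +kernel

theorem rot8_8 : T.rot 8 [2, 3, 9, 1, 9] (sel (ones 23) ip8 8) = true := by decide +kernel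

theorem rot8_8r : band (Rule.ok (2 * 0) EX RL ⟨8 :: [2, 3, 9, 1, 9], [2], 14, true⟩) (lall (memL L) [2, 3, 9, 1, 9]) = true := by decide +kernel

theorem rot8_9 : T.rot 8 [12, 12, 12, 6, 12, 14] (sel (ones 23) ip8 9) = true := by decide +kernel

theorem rot8_9r : band (Rule.ok (2 * 0) EX RL ⟨8 :: [12, 12, 12, 6, 12, 14], [], 17, false⟩) (lall (memL L) [12, 12, 12, 6, 12, 14]) = true := by decide +kernel

theorem rot8_10 : T.rot 8 [12, 12, 6, 9, 1, 2] (sel (ones 23) ip8 10) = true := by decide +kernel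

theorem rot8_10r : band (Rule.ok (2 * 0) EX RL ⟨8 :: [12, 12, 6, 9, 1, 2], [3], 18, true⟩) (lall (memL L) [12, 12, 6, 9, 1, 2]) = true := by decide +kernel

theorem rot8_11 : T.rot 8 [9, 14, 10, 11, 12, 13] (sel (ones 23) ip8 11) = true := by decide +kernel

theorem rot8_11r : band (Rule.ok (2 * 0) EX RL ⟨8 :: [9, 14, 10, 11, 12, 13], [], 19, false⟩) (lall (memL L) [9, 14, 10, 11, 12, 13]) = true := by decide +kernel

theorem rot8_12 : T.rot 8 [3, 4, 14, 13, 12, 12, 9] (sel (ones 23) ip8 12) = true := by decide +kernel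

theorem rot8_12r : band (Rule.ok (2 * 0) EX RL ⟨8 :: [3, 4, 14, 13, 12, 12, 9], [], 20, false⟩) (lall (memL L) [3, 4, 14, 13, 12, 12, 9]) = true := by decide +kernel

theorem cov8 : T.cover 8 [(sel (ones 23) ip8 1), (sel (ones 23) ip8 2), (sel (ones 23) ip8 3), (sel (ones 23) ip8 4), (sel (ones 23) ip8 5), (sel (ones 23) ip8 6), (sel (ones 23) ip8 7), (sel (ones 23) ip8 8), (sel (ones 23) ip8 9), (sel (ones 23) ip8 10), (sel (ones 23) ip8 11), (sel (ones 23) ip8 12)] = true := by decide +kernel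

theorem tl8 : T.treeLt 5 8 = true := by decide +kernel

theorem rot9_1 : T.rot 9 [2] (sel (ones 23) ip9 1) = true := by decide +kernel

theorem rot9_1r : band (Rule.ok (2 * 0) EX RL ⟨9 :: [2], [], 33, false⟩) (lall (memL L) [2]) = true := by decide +kernel

theorem rot9_2 : T.rot 9 [9, 9] (sel (ones 23) ip9 2) = true := by decide +kernel

theorem rot9_2r : band (Rule.ok (2 * 0) EX RL ⟨9 :: [9, 9], [], 1, false⟩) (lall (memL L) [9, 9]) = true := by decide +kernel

theorem rot9_3 : T.rot 9 [12, 12, 6, 3] (sel (ones 23) ip9 3) = true := by decide +kernel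

theorem rot9_3r : band (Rule.ok (2 * 0) EX RL ⟨9 :: [12, 12, 6, 3], [], 7, false⟩) (lall (memL L) [12, 12, 6, 3]) = true := by decide +kernel

theorem rot9_4 : T.rot 9 [12, 12, 7, 6] (sel (ones 23) ip9 4) = true := by decide +kernel

theorem rot9_4r : band (Rule.ok (2 * 0) EX RL ⟨9 :: [12, 12, 7, 6], [], 8, false⟩) (lall (memL L) [12, 12, 7, 6]) = true := by decide +kernel

theorem rot9_5 : T.rot 9 [13, 10, 14, 4] (sel (ones 23) ip9 5) = true := by decide +kernel

theorem rot9_5r : band (Rule.ok (2 * 0) EX RL ⟨9 :: [13, 10, 14, 4], [], 10, false⟩) (lall (memL L) [13, 10, 14, 4]) = true := by decide +kernel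

theorem rot9_6 : T.rot 9 [5, 6, 12, 12, 12, 6] (sel (ones 23) ip9 6) = true := by decide +kernel

theorem rot9_6r : band (Rule.ok (2 * 0) EX RL ⟨9 :: [5, 6, 12, 12, 12, 6], [], 15, false⟩) (lall (memL L) [5, 6, 12, 12, 12, 6]) = true := by decide +kernel

theorem rot9_7 : T.rot 9 [1, 2, 8, 12, 12, 6] (sel (ones 23) ip9 7) = true := by decide +kernel

theorem rot9_7r : band (Rule.ok (2 * 0) EX RL ⟨9 :: [1, 2, 8, 12, 12, 6], [0, 3], 18, true⟩) (lall (memL L) [1, 2, 8, 12, 12, 6]) = true := by decide +kernel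

theorem rot9_8 : T.rot 9 [14, 10, 11, 12, 13, 8] (sel (ones 23) ip9 8) = true := by decide +kernel

theorem rot9_8r : band (Rule.ok (2 * 0) EX RL ⟨9 :: [14, 10, 11, 12, 13, 8], [0], 19, false⟩) (lall (memL L) [14, 10, 11, 12, 13, 8]) = true := by decide +kernel

theorem rot9_9 : T.rot 9 [8, 3, 4, 14, 13, 12, 12] (sel (ones 23) ip9 9) = true := by decide +kernel

theorem rot9_9r : band (Rule.ok (2 * 0) EX RL ⟨9 :: [8, 3, 4, 14, 13, 12, 12], [3], 20, false⟩) (lall (memL L) [8, 3, 4, 14, 13, 12, 12]) = true := by decide +kernel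

theorem rot9_10 : T.rot 9 [5, 5, 13, 12, 12, 1, 2, 12, 12] (sel (ones 23) ip9 10) = true := by decide +kernel

theorem rot9_10r : band (Rule.ok (2 * 0) EX RL ⟨9 :: [5, 5, 13, 12, 12, 1, 2, 12, 12], [3, 8, 8], 28, true⟩) (lall (memL L) [5, 5, 13, 12, 12, 1, 2, 12, 12]) = true := by decide +kernel

theorem rot9_11 : T.rot 9 [8, 5, 5, 6, 12, 12, 2, 5, 5] (sel (ones 23) ip9 11) = true := by decide +kernel

theorem rot9_11r : band (Rule.ok (2 * 0) EX RL ⟨9 :: [8, 5, 5, 6, 12, 12, 2, 5, 5], [3], 28, false⟩) (lall (memL L) [8, 5, 5, 6, 12, 12, 2, 5, 5]) = true := by decide +kernel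

theorem rot9_12 : T.rot 9 [1, 2, 5, 6, 7, 13, 12, 12, 12] (sel (ones 23) ip9 12) = true := by decide +kernel

theorem rot9_12r : band (Rule.ok (2 * 0) EX RL ⟨9 :: [1, 2, 5, 6, 7, 13, 12, 12, 12], [0, 3], 31, true⟩) (lall (memL L) [1, 2, 5, 6, 7, 13, 12, 12, 12]) = true := by decide +kernel

theorem cov9 : T.cover 9 [(sel (ones 23) ip9 1), (sel (ones 23) ip9 2), (sel (ones 23) ip9 3), (sel (ones 23) ip9 4), (sel (ones 23) ip9 5), (sel (ones 23) ip9 6), (sel (ones 23) ip9 7), (sel (ones 23) ip9 8), (sel (ones 23) ip9 9), (sel (ones 23) ip9 10), (sel (ones 23) ip9 11), (sel (ones 23) ip9 12)] = true := by decide +kernel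

theorem tl9 : T.treeLt 5 9 = true := by decide +kernel

theorem rot10_1 : T.rot 10 [3] (sel (ones 23) ip10 1) = true := by decide +kernel

theorem rot10_1r : band (Rule.ok (2 * 0) EX RL ⟨10 :: [3], [], 33, false⟩) (lall (memL L) [3]) = true := by decide +kernel

theorem rot10_2 : T.rot 10 [10, 10] (sel (ones 23) ip10 2) = true := by decide +kernel

theorem rot10_2r : band (Rule.ok (2 * 0) EX RL ⟨10 :: [10, 10], [], 3, false⟩) (lall (memL L) [10, 10]) = true := by decide +kernel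

theorem rot10_3 : T.rot 10 [13, 7, 6] (sel (ones 23) ip10 3) = true := by decide +kernel

theorem rot10_3r : band (Rule.ok (2 * 0) EX RL ⟨10 :: [13, 7, 6], [], 6, false⟩) (lall (memL L) [13, 7, 6]) = true := by decide +kernel

theorem rot10_4 : T.rot 10 [13, 5, 5, 2] (sel (ones 23) ip10 4) = true := by decide +kernel

theorem rot10_4r : band (Rule.ok (2 * 0) EX RL ⟨10 :: [13, 5, 5, 2], [], 7, true⟩) (lall (memL L) [13, 5, 5, 2]) = true := by decide +kernel

theorem rot10_5 : T.rot 10 [14, 4, 9, 13] (sel (ones 23) ip10 5) = true := by decide +kernel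

theorem rot10_5r : band (Rule.ok (2 * 0) EX RL ⟨10 :: [14, 4, 9, 13], [2, 10], 10, false⟩) (lall (memL L) [14, 4, 9, 13]) = true := by decide +kernel

theorem rot10_6 : T.rot 10 [14, 8, 7, 3, 4] (sel (ones 23) ip10 6) = true := by decide +kernel

theorem rot10_6r : band (Rule.ok (2 * 0) EX RL ⟨10 :: [14, 8, 7, 3, 4], [13, 5], 11, false⟩) (lall (memL L) [14, 8, 7, 3, 4]) = true := by decide +kernel

theorem rot10_7 : T.rot 10 [9, 1, 2, 8, 2] (sel (ones 23) ip10 7) = true := by decide +kernel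

theorem rot10_7r : band (Rule.ok (2 * 0) EX RL ⟨10 :: [9, 1, 2, 8, 2], [0, 3], 14, false⟩) (lall (memL L) [9, 1, 2, 8, 2]) = true := by decide +kernel

theorem rot10_8 : T.rot 10 [1, 2, 5, 5, 6, 7, 11] (sel (ones 23) ip10 8) = true := by decide +kernel

theorem rot10_8r : band (Rule.ok (2 * 0) EX RL ⟨10 :: [1, 2, 5, 5, 6, 7, 11], [0, 5], 20, true⟩) (lall (memL L) [1, 2, 5, 5, 6, 7, 11]) = true := by decide +kernel

theorem rot10_9 : T.rot 10 [13, 12, 12, 6, 7, 3, 4, 14, 11] (sel (ones 23) ip10 9) = true := by decide +kernel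

theorem rot10_9r : band (Rule.ok (2 * 0) EX RL ⟨10 :: [13, 12, 12, 6, 7, 3, 4, 14, 11], [], 29, false⟩) (lall (memL L) [13, 12, 12, 6, 7, 3, 4, 14, 11]) = true := by decide +kernel

theorem cov10 : T.cover 10 [(sel (ones 23) ip10 1), (sel (ones 23) ip10 2), (sel (ones 23) ip10 3), (sel (ones 23) ip10 4), (sel (ones 23) ip10 5), (sel (ones 23) ip10 6), (sel (ones 23) ip10 7), (sel (ones 23) ip10 8), (sel (ones 23) ip10 9)] = true := by decide +kernel

theorem tl10 : T.treeLt 5 10 = true := by decide +kernel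

theorem rot11_1 : T.rot 11 [4] (sel (ones 23) ip11 1) = true := by decide +kernel

theorem rot11_1r : band (Rule.ok (2 * 0) EX RL ⟨11 :: [4], [], 33, false⟩) (lall (memL L) [4]) = true := by decide +kernel

theorem rot11_2 : T.rot 11 [11, 11] (sel (ones 23) ip11 2) = true := by decide +kernel

theorem rot11_2r : band (Rule.ok (2 * 0) EX RL ⟨11 :: [11, 11], [], 4, false⟩) (lall (memL L) [11, 11]) = true := by decide +kernel

theorem rot11_3 : T.rot 11 [14, 11, 14, 1] (sel (ones 23) ip11 3) = true := by decide +kernel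

theorem rot11_3r : band (Rule.ok (2 * 0) EX RL ⟨11 :: [14, 11, 14, 1], [], 9, true⟩) (lall (memL L) [14, 11, 14, 1]) = true := by decide +kernel

theorem rot11_4 : T.rot 11 [14, 1, 11, 14] (sel (ones 23) ip11 4) = true := by decide +kernel

theorem rot11_4r : band (Rule.ok (2 * 0) EX RL ⟨11 :: [14, 1, 11, 14], [6, 12], 9, true⟩) (lall (memL L) [14, 1, 11, 14]) = true := by decide +kernel

theorem rot11_5 : T.rot 11 [7, 3, 6, 2] (sel (ones 23) ip11 5) = true := by decide +kernel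

theorem rot11_5r : band (Rule.ok (2 * 0) EX RL ⟨11 :: [7, 3, 6, 2], [], 10, true⟩) (lall (memL L) [7, 3, 6, 2]) = true := by decide +kernel

theorem rot11_6 : T.rot 11 [10, 14, 1, 7, 3] (sel (ones 23) ip11 6) = true := by decide +kernel

theorem rot11_6r : band (Rule.ok (2 * 0) EX RL ⟨11 :: [10, 14, 1, 7, 3], [13, 5], 11, true⟩) (lall (memL L) [10, 14, 1, 7, 3]) = true := by decide +kernel

theorem rot11_7 : T.rot 11 [3, 4, 10, 4, 8] (sel (ones 23) ip11 7) = true := by decide +kernel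

theorem rot11_7r : band (Rule.ok (2 * 0) EX RL ⟨11 :: [3, 4, 10, 4, 8], [0], 12, false⟩) (lall (memL L) [3, 4, 10, 4, 8]) = true := by decide +kernel

theorem rot11_8 : T.rot 11 [10, 4, 7, 4, 7, 3] (sel (ones 23) ip11 8) = true := by decide +kernel

theorem rot11_8r : band (Rule.ok (2 * 0) EX RL ⟨11 :: [10, 4, 7, 4, 7, 3], [7], 16, false⟩) (lall (memL L) [10, 4, 7, 4, 7, 3]) = true := by decide +kernel

theorem rot11_9 : T.rot 11 [12, 13, 8, 9, 14, 10] (sel (ones 23) ip11 9) = true := by decide +kernel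

theorem rot11_9r : band (Rule.ok (2 * 0) EX RL ⟨11 :: [12, 13, 8, 9, 14, 10], [11, 9, 7], 19, false⟩) (lall (memL L) [12, 13, 8, 9, 14, 10]) = true := by decide +kernel

theorem rot11_10 : T.rot 11 [10, 1, 2, 5, 5, 6, 7] (sel (ones 23) ip11 10) = true := by decide +kernel

theorem rot11_10r : band (Rule.ok (2 * 0) EX RL ⟨11 :: [10, 1, 2, 5, 5, 6, 7], [0, 5, 7], 20, true⟩) (lall (memL L) [10, 1, 2, 5, 5, 6, 7]) = true := by decide +kernel

theorem rot11_11 : T.rot 11 [10, 9, 8, 11, 10, 9, 8] (sel (ones 23) ip11 11) = true := by decide +kernel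

theorem rot11_11r : band (Rule.ok (2 * 0) EX RL ⟨11 :: [10, 9, 8, 11, 10, 9, 8], [0], 21, false⟩) (lall (memL L) [10, 9, 8, 11, 10, 9, 8]) = true := by decide +kernel

theorem rot11_12 : T.rot 11 [10, 13, 12, 12, 6, 7, 3, 4, 14] (sel (ones 23) ip11 12) = true := by decide +kernel

theorem rot11_12r : band (Rule.ok (2 * 0) EX RL ⟨11 :: [10, 13, 12, 12, 6, 7, 3, 4, 14], [7], 29, false⟩) (lall (memL L) [10, 13, 12, 12, 6, 7, 3, 4, 14]) = true := by decide +kernel

theorem ep0a : T.treePath [5] (Nat.shiftLeft 1 1) 1 = true := by decide +kernel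

theorem ep0b : T.treePath [5, 10] (Nat.shiftLeft 1 11) 1 = true := by decide +kernel

theorem ep0c : band (lall (fun z => Nat.ble z 255) ([5] ++ 11 :: [3, 12])) (concl F IV 50 0x20000d0003100000004 (encA ([5] ++ 11 :: [3, 12]) 0)) = true := by decide +kernel

theorem ep0d : band (Rule.ok (2 * 0) EX [] ⟨lapp [5, 10] [3, 12], [], 0, false⟩) (band (lall (memL L) [5]) (lall (memL L) [5, 10])) = true := by decide +kernel

theorem cov11 : T.cover 11 [(sel (ones 23) ip11 1), (sel (ones 23) ip11 2), (sel (ones 23) ip11 3), (sel (ones 23) ip11 4), (sel (ones 23) ip11 5), (sel (ones 23) ip11 6), (sel (ones 23) ip11 7), (sel (ones 23) ip11 8), (sel (ones 23) ip11 9), (sel (ones 23) ip11 10), (sel (ones 23) ip11 11), (sel (ones 23) ip11 12), (Nat.shiftLeft 1 1)] = true := by decide +kernel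

theorem tl11 : Nat.beq (T.let 11).tt 0 = true := by decide +kernel

theorem rot12_1 : T.rot 12 [5] (sel (ones 23) ip12 1) = true := by decide +kernel

theorem rot12_1r : band (Rule.ok (2 * 0) EX RL ⟨12 :: [5], [], 33, false⟩) (lall (memL L) [5]) = true := by decide +kernel

theorem rot12_2 : T.rot 12 [12, 6, 3, 9] (sel (ones 23) ip12 2) = true := by decide +kernel

theorem rot12_2r : band (Rule.ok (2 * 0) EX RL ⟨12 :: [12, 6, 3, 9], [2], 7, false⟩) (lall (memL L) [12, 6, 3, 9]) = true := by decide +kernel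

theorem rot12_3 : T.rot 12 [6, 3, 9, 12] (sel (ones 23) ip12 3) = true := by decide +kernel

theorem rot12_3r : band (Rule.ok (2 * 0) EX RL ⟨12 :: [6, 3, 9, 12], [2, 8], 7, false⟩) (lall (memL L) [6, 3, 9, 12]) = true := by decide +kernel

theorem rot12_4 : T.rot 12 [1, 2, 8, 5, 13] (sel (ones 23) ip12 4) = true := by decide +kernel

theorem rot12_4r : band (Rule.ok (2 * 0) EX RL ⟨12 :: [1, 2, 8, 5, 13], [2, 0, 9], 13, false⟩) (lall (memL L) [1, 2, 8, 5, 13]) = true := by decide +kernel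

theorem rot12_5 : T.rot 12 [2, 13, 5, 5, 5, 13] (sel (ones 23) ip12 5) = true := by decide +kernel

theorem rot12_5r : band (Rule.ok (2 * 0) EX RL ⟨12 :: [2, 13, 5, 5, 5, 13], [2, 9], 15, true⟩) (lall (memL L) [2, 13, 5, 5, 5, 13]) = true := by decide +kernel

theorem rot12_6 : T.rot 12 [12, 12, 6, 9, 5, 6] (sel (ones 23) ip12 6) = true := by decide +kernel

theorem rot12_6r : band (Rule.ok (2 * 0) EX RL ⟨12 :: [12, 12, 6, 9, 5, 6], [2, 9, 11], 15, false⟩) (lall (memL L) [12, 12, 6, 9, 5, 6]) = true := by decide +kernel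

theorem rot12_7 : T.rot 12 [12, 6, 9, 5, 6, 12] (sel (ones 23) ip12 7) = true := by decide +kernel

theorem rot12_7r : band (Rule.ok (2 * 0) EX RL ⟨12 :: [12, 6, 9, 5, 6, 12], [10, 9, 9], 15, false⟩) (lall (memL L) [12, 6, 9, 5, 6, 12]) = true := by decide +kernel

theorem rot12_8 : T.rot 12 [12, 6, 12, 14, 8, 12] (sel (ones 23) ip12 8) = true := by decide +kernel

theorem rot12_8r : band (Rule.ok (2 * 0) EX RL ⟨12 :: [12, 6, 12, 14, 8, 12], [0, 8], 17, false⟩) (lall (memL L) [12, 6, 12, 14, 8, 12]) = true := by decide +kernel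

theorem rot12_9 : T.rot 12 [13, 8, 9, 14, 10, 11] (sel (ones 23) ip12 9) = true := by decide +kernel

theorem rot12_9r : band (Rule.ok (2 * 0) EX RL ⟨12 :: [13, 8, 9, 14, 10, 11], [11, 9], 19, false⟩) (lall (memL L) [13, 8, 9, 14, 10, 11]) = true := by decide +kernel

theorem rot12_10 : T.rot 12 [12, 7, 11, 3, 4, 14, 1, 2, 13] (sel (ones 23) ip12 10) = true := by decide +kernel

theorem rot12_10r : band (Rule.ok (2 * 0) EX RL ⟨12 :: [12, 7, 11, 3, 4, 14, 1, 2, 13], [3, 10], 26, true⟩) (lall (memL L) [12, 7, 11, 3, 4, 14, 1, 2, 13]) = true := by decide +kernel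

theorem rot12_11 : T.rot 12 [7, 11, 3, 4, 14, 1, 2, 13, 12] (sel (ones 23) ip12 11) = true := by decide +kernel

theorem rot12_11r : band (Rule.ok (2 * 0) EX RL ⟨12 :: [7, 11, 3, 4, 14, 1, 2, 13, 12], [3, 10, 8], 26, true⟩) (lall (memL L) [7, 11, 3, 4, 14, 1, 2, 13, 12]) = true := by decide +kernel

theorem rot12_12 : T.rot 12 [12, 9, 5, 5, 13, 12, 12, 1, 2] (sel (ones 23) ip12 12) = true := by decide +kernel

theorem rot12_12r : band (Rule.ok (2 * 0) EX RL ⟨12 :: [12, 9, 5, 5, 13, 12, 12, 1, 2], [3], 28, true⟩) (lall (memL L) [12, 9, 5, 5, 13, 12, 12, 1, 2]) = true := by decide +kernel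

theorem cov12 : T.cover 12 [(sel (ones 23) ip12 1), (sel (ones 23) ip12 2), (sel (ones 23) ip12 3), (sel (ones 23) ip12 4), (sel (ones 23) ip12 5), (sel (ones 23) ip12 6), (sel (ones 23) ip12 7), (sel (ones 23) ip12 8), (sel (ones 23) ip12 9), (sel (ones 23) ip12 10), (sel (ones 23) ip12 11), (sel (ones 23) ip12 12)] = true := by decide +kernel

theorem tl12 : T.treeLt 5 12 = true := by decide +kernel

theorem rot13_1 : T.rot 13 [6] (sel (ones 23) ip13 1) = true := by decide +kernel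

theorem rot13_1r : band (Rule.ok (2 * 0) EX RL ⟨13 :: [6], [], 33, false⟩) (lall (memL L) [6]) = true := by decide +kernel

theorem rot13_2 : T.rot 13 [13, 13] (sel (ones 23) ip13 2) = true := by decide +kernel

theorem rot13_2r : band (Rule.ok (2 * 0) EX RL ⟨13 :: [13, 13], [], 0, false⟩) (lall (memL L) [13, 13]) = true := by decide +kernel

theorem rot13_3 : T.rot 13 [14, 6, 3] (sel (ones 23) ip13 3) = true := by decide +kernel

theorem rot13_3r : band (Rule.ok (2 * 0) EX RL ⟨13 :: [14, 6, 3], [], 6, true⟩) (lall (memL L) [14, 6, 3]) = true := by decide +kernel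

theorem rot13_4 : T.rot 13 [7, 6, 10] (sel (ones 23) ip13 4) = true := by decide +kernel

theorem rot13_4r : band (Rule.ok (2 * 0) EX RL ⟨13 :: [7, 6, 10], [4], 6, false⟩) (lall (memL L) [7, 6, 10]) = true := by decide +kernel

theorem rot13_5 : T.rot 13 [5, 5, 2, 10] (sel (ones 23) ip13 5) = true := by decide +kernel

theorem rot13_5r : band (Rule.ok (2 * 0) EX RL ⟨13 :: [5, 5, 2, 10], [4], 7, true⟩) (lall (memL L) [5, 5, 2, 10]) = true := by decide +kernel

theorem rot13_6 : T.rot 13 [12, 1, 2, 8, 5] (sel (ones 23) ip13 6) = true := by decide +kernel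

theorem rot13_6r : band (Rule.ok (2 * 0) EX RL ⟨13 :: [12, 1, 2, 8, 5], [0, 9], 13, false⟩) (lall (memL L) [12, 1, 2, 8, 5]) = true := by decide +kernel

theorem rot13_7 : T.rot 13 [12, 2, 13, 5, 5, 5] (sel (ones 23) ip13 7) = true := by decide +kernel

theorem rot13_7r : band (Rule.ok (2 * 0) EX RL ⟨13 :: [12, 2, 13, 5, 5, 5], [2, 9, 11], 15, true⟩) (lall (memL L) [12, 2, 13, 5, 5, 5]) = true := by decide +kernel

theorem rot13_8 : T.rot 13 [5, 5, 5, 1, 7, 5] (sel (ones 23) ip13 8) = true := by decide +kernel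

theorem rot13_8r : band (Rule.ok (2 * 0) EX RL ⟨13 :: [5, 5, 5, 1, 7, 5], [13, 9], 17, true⟩) (lall (memL L) [5, 5, 5, 1, 7, 5]) = true := by decide +kernel

theorem rot13_9 : T.rot 13 [12, 12, 9, 8, 3, 4, 14] (sel (ones 23) ip13 9) = true := by decide +kernel

theorem rot13_9r : band (Rule.ok (2 * 0) EX RL ⟨13 :: [12, 12, 9, 8, 3, 4, 14], [3, 9, 9, 11], 20, false⟩) (lall (memL L) [12, 12, 9, 8, 3, 4, 14]) = true := by decide +kernel

theorem rot13_10 : T.rot 13 [7, 11, 14, 13, 7, 11, 14] (sel (ones 23) ip13 10) = true := by decide +kernel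

theorem rot13_10r : band (Rule.ok (2 * 0) EX RL ⟨13 :: [7, 11, 14, 13, 7, 11, 14], [12, 11], 25, false⟩) (lall (memL L) [7, 11, 14, 13, 7, 11, 14]) = true := by decide +kernel

theorem rot13_11 : T.rot 13 [5, 5, 6, 3, 4, 7, 11, 10, 14] (sel (ones 23) ip13 11) = true := by decide +kernel

theorem rot13_11r : band (Rule.ok (2 * 0) EX RL ⟨13 :: [5, 5, 6, 3, 4, 7, 11, 10, 14], [4, 10, 8, 8, 11], 29, true⟩) (lall (memL L) [5, 5, 6, 3, 4, 7, 11, 10, 14]) = true := by decide +kernel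

theorem rot13_12 : T.rot 13 [12, 12, 12, 9, 1, 2, 5, 6, 7] (sel (ones 23) ip13 12) = true := by decide +kernel

theorem rot13_12r : band (Rule.ok (2 * 0) EX RL ⟨13 :: [12, 12, 12, 9, 1, 2, 5, 6, 7], [3, 9, 11, 13], 31, true⟩) (lall (memL L) [12, 12, 12, 9, 1, 2, 5, 6, 7]) = true := by decide +kernel

theorem cov13 : T.cover 13 [(sel (ones 23) ip13 1), (sel (ones 23) ip13 2), (sel (ones 23) ip13 3), (sel (ones 23) ip13 4), (sel (ones 23) ip13 5), (sel (ones 23) ip13 6), (sel (ones 23) ip13 7), (sel (ones 23) ip13 8), (sel (ones 23) ip13 9), (sel (ones 23) ip13 10), (sel (ones 23) ip13 11), (sel (ones 23) ip13 12)] = true := by decide +kernel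

theorem tl13 : T.treeLt 5 13 = true := by decide +kernel

theorem rot14_1 : T.rot 14 [14, 14] (sel (ones 23) ip14 1) = true := by decide +kernel

theorem rot14_1r : band (Rule.ok (2 * 0) EX RL ⟨14 :: [14, 14], [], 2, false⟩) (lall (memL L) [14, 14]) = true := by decide +kernel

theorem rot14_2 : T.rot 14 [6, 3, 13] (sel (ones 23) ip14 2) = true := by decide +kernel

theorem rot14_2r : band (Rule.ok (2 * 0) EX RL ⟨14 :: [6, 3, 13], [10], 6, true⟩) (lall (memL L) [6, 3, 13]) = true := by decide +kernel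

theorem rot14_3 : T.rot 14 [5, 5, 2, 13] (sel (ones 23) ip14 3) = true := by decide +kernel

theorem rot14_3r : band (Rule.ok (2 * 0) EX RL ⟨14 :: [5, 5, 2, 13], [10], 8, true⟩) (lall (memL L) [5, 5, 2, 13]) = true := by decide +kernel

theorem rot14_4 : T.rot 14 [11, 14, 1, 11] (sel (ones 23) ip14 4) = true := by decide +kernel

theorem rot14_4r : band (Rule.ok (2 * 0) EX RL ⟨14 :: [11, 14, 1, 11], [6], 9, true⟩) (lall (memL L) [11, 14, 1, 11]) = true := by decide +kernel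

theorem rot14_5 : T.rot 14 [4, 9, 13, 10] (sel (ones 23) ip14 5) = true := by decide +kernel

theorem rot14_5r : band (Rule.ok (2 * 0) EX RL ⟨14 :: [4, 9, 13, 10], [6, 13], 10, false⟩) (lall (memL L) [4, 9, 13, 10]) = true := by decide +kernel

theorem rot14_6 : T.rot 14 [1, 7, 3, 11, 10] (sel (ones 23) ip14 6) = true := by decide +kernel

theorem rot14_6r : band (Rule.ok (2 * 0) EX RL ⟨14 :: [1, 7, 3, 11, 10], [0, 13], 11, true⟩) (lall (memL L) [1, 7, 3, 11, 10]) = true := by decide +kernel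

theorem rot14_7 : T.rot 14 [8, 7, 3, 4, 10] (sel (ones 23) ip14 7) = true := by decide +kernel

theorem rot14_7r : band (Rule.ok (2 * 0) EX RL ⟨14 :: [8, 7, 3, 4, 10], [13], 11, false⟩) (lall (memL L) [8, 7, 3, 4, 10]) = true := by decide +kernel

theorem rot14_8 : T.rot 14 [8, 12, 12, 12, 6, 12] (sel (ones 23) ip14 8) = true := by decide +kernel

theorem rot14_8r : band (Rule.ok (2 * 0) EX RL ⟨14 :: [8, 12, 12, 12, 6, 12], [13], 17, false⟩) (lall (memL L) [8, 12, 12, 12, 6, 12]) = true := by decide +kernel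

theorem rot14_9 : T.rot 14 [10, 11, 12, 13, 8, 9] (sel (ones 23) ip14 9) = true := by decide +kernel

theorem rot14_9r : band (Rule.ok (2 * 0) EX RL ⟨14 :: [10, 11, 12, 13, 8, 9], [0, 2], 19, false⟩) (lall (memL L) [10, 11, 12, 13, 8, 9]) = true := by decide +kernel

theorem rot14_10 : T.rot 14 [5, 5, 5, 6, 12, 12, 12] (sel (ones 23) ip14 10) = true := by decide +kernel

theorem rot14_10r : band (Rule.ok (2 * 0) EX RL ⟨14 :: [5, 5, 5, 6, 12, 12, 12], [8, 8, 8], 24, false⟩) (lall (memL L) [5, 5, 5, 6, 12, 12, 12]) = true := by decide +kernel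

theorem rot14_11 : T.rot 14 [1, 2, 13, 12, 12, 7, 11, 3, 4] (sel (ones 23) ip14 11) = true := by decide +kernel

theorem rot14_11r : band (Rule.ok (2 * 0) EX RL ⟨14 :: [1, 2, 13, 12, 12, 7, 11, 3, 4], [0, 13], 26, true⟩) (lall (memL L) [1, 2, 13, 12, 12, 7, 11, 3, 4]) = true := by decide +kernel

theorem rot14_12 : T.rot 14 [13, 12, 9, 8, 2, 5, 5, 5, 6] (sel (ones 23) ip14 12) = true := by decide +kernel

theorem rot14_12r : band (Rule.ok (2 * 0) EX RL ⟨14 :: [13, 12, 9, 8, 2, 5, 5, 5, 6], [3, 9, 11, 13], 31, false⟩) (lall (memL L) [13, 12, 9, 8, 2, 5, 5, 5, 6]) = true := by decide +kernel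

theorem cov14 : T.cover 14 [(sel (ones 23) ip14 1), (sel (ones 23) ip14 2), (sel (ones 23) ip14 3), (sel (ones 23) ip14 4), (sel (ones 23) ip14 5), (sel (ones 23) ip14 6), (sel (ones 23) ip14 7), (sel (ones 23) ip14 8), (sel (ones 23) ip14 9), (sel (ones 23) ip14 10), (sel (ones 23) ip14 11), (sel (ones 23) ip14 12)] = true := by decide +kernel

theorem tl14 : T.treeLt 5 14 = true := by decide +kernel

end Cfsg.Agent.Spor.J23
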