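import Cfsg.Agent.Spor.Chk

set_option autoImplicit false
set_option maxRecDepth 100000000
set_option Elab.async false
noncomputable section

namespace Cfsg.Agent.Spor.J23

def m0_0 : Nat := nat_lit 0x2011
def m0_1 : Nat := nat_lit 0x44004b
def m0_2 : Nat := nat_lit 0x40a
def m0_3 : Nat := nat_lit 0x10020300
def m0_4 : Nat := nat_lit 0x10000514
def m0_5 : Nat := nat_lit 0x10000010
def m0_6 : Nat := nat_lit 0x4020002
def m0_7 : Nat := nat_lit 0x44004a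
def m0_8 : Nat := nat_lit 0x2011
def n0 : Net := Net.cons 16 m0_0 (Net.cons 8 m0_1 (Net.cons 4 m0_2 (Net.cons 2 m0_3 (Net.cons 1 m0_4 (Net.cons 2 m0_5 (Net.cons 4 m0_6 (Net.cons 8 m0_7 (Net.cons 16 m0_8 (Net.nil)))))))))

def m1_0 : Nat := nat_lit 0x4083
def m1_1 : Nat := nat_lit 0x4000a0
def m1_2 : Nat := nat_lit 0x5010a
def m1_3 : Nat := nat_lit 0x10003
def m1_4 : Nat := nat_lit 0x401015
def m1_5 : Nat := nat_lit 0x200000
def m1_6 : Nat := nat_lit 0x50006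
def m1_7 : Nat := nat_lit 0xa2
def m1_8 : Nat := nat_lit 0x4083
def n1 : Net := Net.cons 16 m1_0 (Net.cons 8 m1_1 (Net.cons 4 m1_2 (Net.cons 2 m1_3 (Net.cons 1 m1_4 (Net.cons 2 m1_5 (Net.cons 4 m1_6 (Net.cons 8 m1_7 (Net.cons 16 m1_8 (Net.nil)))))))))

def m2_0 : Nat := nat_lit 0x4015
def m2_1 : Nat := nat_lit 0x140013
def m2_2 : Nat := nat_lit 0x40902
def m2_3 : Nat := nat_lit 0x10020232
def m2_4 : Nat := nat_lit 0x40141
def m2_5 : Nat := nat_lit 0x404000a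
def m2_6 : Nat := nat_lit 0x140080
def m2_7 : Nat := nat_lit 0x4015
def n2 : Net := Net.cons 16 m2_0 (Net.cons 8 m2_1 (Net.cons 4 m2_2 (Net.cons 2 m2_3 (Net.cons 1 m2_4 (Net.cons 4 m2_5 (Net.cons 8 m2_6 (Net.cons 16 m2_7 (Net.nil))))))))

def m3_0 : Nat := nat_lit 0x40
def m3_1 : Nat := nat_lit 0xb
def m3_2 : Nat := nat_lit 0x200
def m3_3 : Nat := nat_lit 0x122012
def m3_4 : Nat := nat_lit 0x141411
def m3_5 : Nat := nat_lit 0x100010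
def m3_6 : Nat := nat_lit 0xa0c
def m3_7 : Nat := nat_lit 0xa1
def m3_8 : Nat := nat_lit 0x20
def n3 : Net := Net.cons 16 m3_0 (Net.cons 8 m3_1 (Net.cons 4 m3_2 (Net.cons 2 m3_3 (Net.cons 1 m3_4 (Net.cons 2 m3_5 (Net.cons 4 m3_6 (Net.cons 8 m3_7 (Net.cons 16 m3_8 (Net.nil)))))))))

def m4_0 : Nat := nat_lit 0x1241
def m4_1 : Nat := nat_lit 0x1000c6
def m4_2 : Nat := nat_lit 0x20700
def m4_3 : Nat := nat_lit 0x112021
def m4_4 : Nat := nat_lit 0x54044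
def m4_5 : Nat := nat_lit 0x1001
def m4_6 : Nat := nat_lit 0x4010d
def m4_7 : Nat := nat_lit 0x2004b
def m4_8 : Nat := nat_lit 0x126e
def n4 : Net := Net.cons 16 m4_0 (Net.cons 8 m4_1 (Net.cons 4 m4_2 (Net.cons 2 m4_3 (Net.cons 1 m4_4 (Net.cons 2 m4_5 (Net.cons 4 m4_6 (Net.cons 8 m4_7 (Net.cons 16 m4_8 (Net.nil)))))))))

def m5_0 : Nat := nat_lit 0xc0
def m5_1 : Nat := nat_lit 0x29
def m5_2 : Nat := nat_lit 0x60301
def m5_3 : Nat := nat_lit 0x1001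
def m5_4 : Nat := nat_lit 0x501410
def m5_5 : Nat := nat_lit 0x1000
def m5_6 : Nat := nat_lit 0x30
def m5_7 : Nat := nat_lit 0xc0
def n5 : Net := Net.cons 16 m5_0 (Net.cons 8 m5_1 (Net.cons 4 m5_2 (Net.cons 2 m5_3 (Net.cons 1 m5_4 (Net.cons 2 m5_5 (Net.cons 8 m5_6 (Net.cons 16 m5_7 (Net.nil))))))))

def m6_0 : Nat := nat_lit 0x25
def m6_1 : Nat := nat_lit 0x60
def m6_2 : Nat := nat_lit 0x60800
def m6_3 : Nat := nat_lit 0x121300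
def m6_4 : Nat := nat_lit 0x51004
def m6_5 : Nat := nat_lit 0x1002
def m6_6 : Nat := nat_lit 0x30a06
def m6_7 : Nat := nat_lit 0x3
def m6_8 : Nat := nat_lit 0x25
def n6 : Net := Net.cons 16 m6_0 (Net.cons 8 m6_1 (Net.cons 4 m6_2 (Net.cons 2 m6_3 (Net.cons 1 m6_4 (Net.cons 2 m6_5 (Net.cons 4 m6_6 (Net.cons 8 m6_7 (Net.cons 16 m6_8 (Net.nil)))))))))

def ip1 : List Nat := [0x2c8d90, 0x2bbad4, 0x1ac120, 0x745800]
def l1 : Let := ⟨0, false, 0x7fffff, 0x10040, [0x704d10, 0x2fbf0, 0x14810, 0x10980, 0x7eb204]⟩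

def ip2 : List Nat := [0x1cbf40, 0x2ec50a, 0x595a02, 0x1436c]
def l2 : Let := ⟨1, false, 0x7fffff, 0x220000, [0x2bb14c, 0x50084c, 0x260a4e, 0x84c, 0x59d520]⟩

def ip3 : List Nat := [0x767f08, 0x6732b8, 0x6ba124, 0x440]
def l3 : Let := ⟨2, false, 0x7fffff, 0x80, [0x79784c, 0x268790, 0x210014, 0x250400, 0x4ab368]⟩

def ip4 : List Nat := [0x559aac, 0x791590, 0x1622fc, 0x6af004]
def l4 : Let := ⟨3, false, 0x7fffff, 0x100, [0x7cc80, 0x7af390, 0x14014, 0x10408, 0x7eb260]⟩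

def ip5 : List Nat := [0x6daca8, 0x1b3c10, 0x207920, 0x1207a0]
def l5 : Let := ⟨4, false, 0x7fffff, 0x81202, [0x5fcb28, 0x195b90, 0x94980, 0x96980, 0x321420]⟩

def ip6 : List Nat := [0x60a278, 0x53e8e6, 0x76940a, 0xd3300]
def l6 : Let := ⟨5, false, 0x7fffff, 0x4, [0x70f898, 0x166ee6, 0x52cc8, 0x12c00, 0x7a9100]⟩

def ip7 : List Nat := [0x4fd0b8, 0x559d16, 0x310881, 0x4ee648]
def l7 : Let := ⟨6, false, 0x7fffff, 0x0, [0x316ce3, 0x539054, 0xd0f, 0x10180, 0x7ef200]⟩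

def ip8 : List Nat := [0x6d295d, 0x5a3d94, 0x26228, 0x6cd204]
def l8 : Let := ⟨0, true, 0x7fffff, 0x400, [0xd425d, 0x709e3c, 0x314, 0x90c, 0x7ef080]⟩

def ip9 : List Nat := [0x2beca9, 0xc829a, 0x595c22, 0x40a150]
def l9 : Let := ⟨1, true, 0x7fffff, 0x2000, [0x2fb269, 0x116840, 0x52ad2, 0x12840, 0x58d528]⟩

def ip10 : List Nat := [0x3fb281, 0x3e7b08, 0x6aa138, 0x10400]
def l10 : Let := ⟨2, true, 0x7fffff, 0x104800, [0x633299, 0x3ccc20, 0x204018, 0x240408, 0x5bb320]⟩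

def ip11 : List Nat := [0x5f27c5, 0x519e1c, 0x3214f0, 0x4ce220]
def l11 : Let := ⟨3, true, 0x7fffff, 0x0, [0xb4709, 0x7cfe10, 0x14030, 0x10088, 0x7eb244]⟩

def ip12 : List Nat := [0x9f29a, 0x308858, 0x12e480, 0x470050]
def l12 : Let := ⟨4, true, 0x7fffff, 0x448008, [0x2e7e52, 0x354c58, 0x214c10, 0x214c90, 0x52a040]⟩

def ip13 : List Nat := [0x50892c, 0x67871a, 0x72e8c2, 0x93160]
def l13 : Let := ⟨5, true, 0x7fffff, 0x10, [0x56af04, 0x2647fa, 0x50dc8, 0x10508, 0x7ab000]⟩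

def ip14 : List Nat := [0x250d64, 0x5e1516, 0x184e80, 0x62e30a]
def l14 : Let := ⟨6, true, 0x7fffff, 0x20, [0x2c8dcc, 0x1a1638, 0x10966, 0x10480, 0x7ef200]⟩

def F : Nat := nat_lit 0x70b0000100007000000900009000000e0000a00000100000a00000110001005000140000407000130000e0a000100000e0600012000100d000110000a02000100000e0b0000a0000f0b0000e000060e0000f000070e0000e0000b0e0000c0000a0a0000c000070700009000040b00009000020d00007000010700002000010200001000050c0000800003010000300003060000500001060000100000040000000000030000000000020000000000010000000014050000d00013040000c000120e0000a000110d0000a00010060000a0000f040000a0000e0e000090000d0d000090000c0a000090000b08000090000a0300009000090b00001000080c00003000070a00001000060800001000050500001000040400001000030e00000000020c00000000010500000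

def rt0_12 : RTree := RTree.node 0xd0d0d ⟨[13, 13, 13], [], 0, false⟩ (RTree.node 0xe07 ⟨[14, 7], [], 33, false⟩ (RTree.node 0xb04 ⟨[11, 4], [], 33, false⟩ (RTree.node 0x30a ⟨[3, 10], [], 33, false⟩ (RTree.leaf) (RTree.leaf)) (RTree.node 0xd06 ⟨[13, 6], [], 33, false⟩ (RTree.leaf) (RTree.leaf))) (RTree.node 0xb0b0b ⟨[11, 11, 11], [], 4, false⟩ (RTree.node 0xa0a0a ⟨[10, 10, 10], [], 3, false⟩ (RTree.leaf) (RTree.leaf)) (RTree.leaf))) (RTree.node 0xd07060a ⟨[13, 7, 6, 10], [4], 6, false⟩ (RTree.node 0xa0d0706 ⟨[10, 13, 7, 6], [], 6, false⟩ (RTree.node 0xe0e0e ⟨[14, 14, 14], [], 2, false⟩ (RTree.leaf) (RTree.leaf)) (RTree.leaf)) (RTree.node 0x5020a0d05 ⟨[5, 2, 10, 13, 5], [2, 8], 7, true⟩ (RTree.node 0x20b070306 ⟨[2, 11, 7, 3, 6], [2], 10, true⟩ (RTree.leaf) (RTree.leaf)) (RTree.leaf)))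
def rt13_25 : RTree := RTree.node 0xc0c060c0e080c ⟨[12, 12, 6, 12, 14, 8, 12], [0, 8], 17, false⟩ (RTree.node 0x60c01090805 ⟨[6, 12, 1, 9, 8, 5], [0, 9, 10], 13, true⟩ (RTree.node 0xb0e010b0e ⟨[11, 14, 1, 11, 14], [6, 12], 9, true⟩ (RTree.node 0x704080704 ⟨[7, 4, 8, 7, 4], [6, 12], 9, false⟩ (RTree.leaf) (RTree.leaf)) (RTree.node 0x107030b0a0e ⟨[1, 7, 3, 11, 10, 14], [0], 11, true⟩ (RTree.leaf) (RTree.leaf))) (RTree.node 0x20d0505050d0c ⟨[2, 13, 5, 5, 5, 13, 12], [2], 15, true⟩ (RTree.node 0xe0107030b0a ⟨[14, 1, 7, 3, 11, 10], [0, 13], 11, true⟩ (RTree.leaf) (RTree.leaf)) (RTree.leaf))) (RTree.node 0x70505050d0c0c0c ⟨[7, 5, 5, 5, 13, 12, 12, 12], [8, 8, 8, 12], 24, true⟩ (RTree.node 0x6070b0a01020505 ⟨[6, 7, 11, 10, 1, 2, 5, 5], [3, 9, 9], 20, true⟩ (RTree.node 0x607040e0607040e ⟨[6, 7, 4, 14, 6, 7, 4, 14], [12], 25, true⟩ (RTree.leaf) (RTree.leaf))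 (RTree.leaf)) (RTree.node 0xe01020d0c0c070b0304 ⟨[14, 1, 2, 13, 12, 12, 7, 11, 3, 4], [0, 13], 26, true⟩ (RTree.node 0x304070b0a0e0d050506 ⟨[3, 4, 7, 11, 10, 14, 13, 5, 5, 6], [4], 29, true⟩ (RTree.leaf) (RTree.leaf)) (RTree.leaf)))
def rt0_25 : RTree := RTree.node 0x70306020b ⟨[7, 3, 6, 2, 11], [6], 10, true⟩ (rt0_12) (rt13_25)
def RT : RTree := rt0_25

def NT : List Net := [n0, n1, n2, n3, n4, n5, n6]
def LT : List Let := [⟨0, false, 0, 0, []⟩, l1, l2, l3, l4, l5, l6, l7, l8, l9, l10, l11, l12, l13, l14]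
def T : Tab := ⟨NT, LT⟩
def EX : List (List Nat) := [[], [0], [2], [4], [6], [8], [10], [12], [1], [3], [5], [7], [9], [11], [13]]
def RL : List (List Nat) := [[10, 10, 10], [2, 2, 2], [12, 12, 12], [4, 4, 4], [6, 6, 6], [0, 0, 0], [4, 10, 13, 11], [2, 8, 8, 11, 5], [2, 8, 8, 13, 11], [0, 13, 7, 13, 7], [2, 10, 4, 12, 7], [0, 13, 5, 7, 4, 12], [0, 6, 5, 7, 4, 7], [0, 9, 10, 8, 1, 3], [0, 3, 4, 2, 1, 3], [2, 9, 11, 8, 8, 8, 11], [4, 7, 13, 7, 13, 5, 6], [0, 8, 8, 8, 11, 8, 12], [0, 3, 10, 9, 9, 1, 2], [0, 2, 12, 4, 6, 8, 10], [0, 5, 7, 12, 10, 8, 8, 2], [0, 6, 4, 2, 0, 6, 4, 2], [0, 5, 6, 4, 0, 5, 6, 4], [0, 4, 1, 2, 0, 4, 1, 2], [8, 8, 8, 12, 9, 9, 9, 11], [6, 12, 10, 13, 6, 12, 10, 13], [0, 13, 6, 4, 7, 12, 9, 9, 11, 2], [4, 7, 4, 7, 4, 7, 4, 7, 4, 7], [0, 9, 9, 11, 8, 8, 3, 9, 9, 2], [4, 10, 8, 8, 11, 13, 5, 7, 12, 6], [0, 3, 0, 3, 0, 3, 0, 3, 0,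 3], [0, 3, 9, 9, 9, 11, 12, 10, 8, 2], [8, 8, 8, 8, 8, 8, 8, 8, 8, 8, 8, 8, 8, 8, 8, 8, 8, 8, 8, 8, 8, 8, 8]]
def XL : List (List Nat) := []
def BW : List (List Nat) := [[0], [2], [4], [6]]
def IV : Nat := 0x70605040302010e0d0c0b0a090800
def L : List Nat := [1, 2, 3, 4, 5, 6, 7, 8, 9, 10, 11, 12, 13, 14]
def gs : List Nat := [1, 2, 3, 4, 5, 6, 7]
def base : List Nat := [1, 2, 3, 4]

end Cfsg.Agent.Spor.J23
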